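import Groth.Agent.Lib.LC.Support
import Groth.Agent.Lib.LC.BaseChange
import Groth.Agent.Lib.InjMod.Noetherian
import Mathlib.RingTheory.Localization.Module
import Mathlib.Algebra.Category.ModuleCat.Injective

/-! Classes in local cohomology killed after localising a map of modules. -/

set_option autoImplicit false

universe u

open CategoryTheory Limits Opposite Abelian

namespace GrothLib.LCSupp3

variable {R : Type u} [CommRing R] (S : Submonoid R)

/-- Localisation as a functor to modules over the localised ring. -/
noncomputable def locA : ModuleCat.{u} R ⥤ ModuleCat.{u} (Localization S) where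
  obj M := ModuleCat.of (Localization S) (LocalizedModule S M)
  map f := ModuleCat.ofHom (LocalizedModule.map S f.hom)
  map_id M := ModuleCat.hom_ext (LinearMap.ext fun x => by
    induction x using LocalizedModule.induction_on with
    | _ m s => exact LocalizedModule.map_mk (S := S) _ m s)
  map_comp {M N P} f g := ModuleCat.hom_ext (LinearMap.ext fun x => by
    induction x using LocalizedModule.induction_on with
    | _ m s =>
      show LocalizedModule.map S (f ≫ g).hom (LocalizedModule.mk m s) =
        LocalizedModule.map S g.hom (LocalizedModule.map S f.hom (LocalizedModule.mk m s))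
      rw [LocalizedModule.map_mk, LocalizedModule.map_mk, LocalizedModule.map_mk]
      rfl)

instance : (locA S).Additive where
  map_add {M N f g} := ModuleCat.hom_ext (map_add (LocalizedModule.map S) f.hom g.hom)

instance : (locA S).PreservesHomology :=
  Functor.preservesHomology_of_map_exact _ fun T hT =>
    (ShortComplex.ShortExact.moduleCat_exact_iff_function_exact (T.map (locA S))).2
      (LocalizedModule.map_exact S T.f.hom T.g.hom
        ((ShortComplex.ShortExact.moduleCat_exact_iff_function_exact T).1 hT))

variable [IsNoetherianRing R] {M M' : ModuleCat.{u} R}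

theorem injective_locA_obj (E : ModuleCat.{u} R) [Injective E] : Injective ((locA S).obj E) :=
  haveI := GrothLib.InjMod.injective_localizedModule (S := S) (Module.injective_module_of_injective_object R E)
  Module.injective_object_of_injective_module (Localization S) (LocalizedModule S E)

/-- The localisation of an injective resolution. -/
noncomputable def resA (K : InjectiveResolution M) : InjectiveResolution ((locA S).obj M) where
  cocomplex := ((locA S).mapHomologicalComplex _).obj K.cocomplex
  injective n := injective_locA_obj S (K.cocomplex.X n)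
  ι := (HomologicalComplex.singleMapHomologicalComplex (locA S) (ComplexShape.up ℕ) 0).inv.app M ≫
    ((locA S).mapHomologicalComplex _).map K.ι

/-- The localisation of a map of resolutions. -/
noncomputable def resHomA {K : InjectiveResolution M} {K' : InjectiveResolution M'} {f : M ⟶ M'}
    (φ : InjectiveResolution.Hom K K' f) :
    InjectiveResolution.Hom (resA S K) (resA S K') ((locA S).map f) where
  hom := ((locA S).mapHomologicalComplex _).map φ.hom
  ι_f_zero_comp_hom_f_zero := by
    have h := congrArg (locA S).map φ.ι_f_zero_comp_hom_f_zero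
    rw [Functor.map_comp, Functor.map_comp] at h
    simp [resA]
    exact h

theorem exists_mem_smul_smul_eq_zero {N : Type u} [AddCommGroup N] [Module R N] (I : Ideal R) (w : N)
    (h : ∀ a ∈ I, ∃ t ∈ S, t • (a • w) = 0) : ∃ t ∈ S, ∀ a ∈ I, a • (t • w) = 0 := by
  obtain ⟨G, hG⟩ := IsNoetherian.noetherian I
  choose t ht hta using fun g : {x // x ∈ G} => h g.1 (hG ▸ Submodule.subset_span g.2)
  refine ⟨∏ g ∈ G.attach, t g, Submonoid.prod_mem S fun g _ => ht g, fun a ha => ?_⟩
  rw [← hG] at ha
  induction ha using Submodule.span_induction with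
  | mem x hx =>
    obtain ⟨c, hc⟩ := Finset.dvd_prod_of_mem t (Finset.mem_attach G ⟨x, hx⟩)
    rw [hc, smul_smul, show x * (t ⟨x, hx⟩ * c) = c * (t ⟨x, hx⟩ * x) by ring, mul_smul, mul_smul,
      hta ⟨x, hx⟩, smul_zero]
  | zero => rw [zero_smul]
  | add x y _ _ hx hy => rw [add_smul, hx, hy, add_zero]
  | smul r x _ hx => rw [smul_eq_mul, mul_smul, hx, smul_zero]

open GrothLib.LC in
/-- A map killed after localisation has image killed by an element of `S`, class by class. -/
theorem exists_smul_map_eq_zero (J : Ideal R) (i : ℕ) (f : M ⟶ M')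
    (hz : (localCohomology (J.map (algebraMap R (Localization S))) i).map ((locA S).map f) = 0)
    (x : (localCohomology J i).obj M) :
    ∃ s ∈ S, s • (localCohomology J i).map f x = 0 := by
  haveI : IsNoetherianRing (Localization S) := IsLocalization.isNoetherianRing S _ inferInstance
  let K := injectiveResolution M
  let K' := injectiveResolution M'
  let d := InjectiveResolution.desc f K' K
  have comm : K.ι.f 0 ≫ d.f 0 = f ≫ K'.ι.f 0 := InjectiveResolution.desc_commutes_zero f _ _
  let φ : InjectiveResolution.Hom K K' f :=
    ⟨d, comm.trans (by rw [CochainComplex.single₀_map_f_zero]; rfl)⟩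
  haveI hT : ∀ X : ModuleCat.{u} R, IsScalarTower R (Localization S) (LocalizedModule S X) :=
    fun _ => inferInstance
  let JA := J.map (algebraMap R (Localization S))
  have hiff : ∀ (X : ModuleCat.{u} R) (w : LocalizedModule S X),
      w ∈ DRing.torsionSub JA (LocalizedModule S X) ↔ w ∈ DRing.torsionSub J (LocalizedModule S X) := fun X w =>
    mem_torsionSub_map_iff (R' := Localization S) J (LocalizedModule S X) w
  obtain ⟨c, rfl⟩ := (homologyEquiv J K i).surjective x
  obtain ⟨y, hy, rfl⟩ := classOf_surjective i c
  let G := ((DRing.gammaI J).mapHomologicalComplex (ComplexShape.up ℕ)).map φ.hom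
  let GA := ((DRing.gammaI JA).mapHomologicalComplex (ComplexShape.up ℕ)).map (resHomA S φ).hom
  let z := G.f i y
  have hd : ∀ (a b : ℕ) (v : K'.cocomplex.X a) (s : S),
      (resA S K').cocomplex.d a b (LocalizedModule.mk v s) = LocalizedModule.mk (K'.cocomplex.d a b v) s :=
    fun a b v s => LocalizedModule.map_mk (S := S) _ v s
  let yA : (gammaComplex JA (resA S K)).X i := ⟨LocalizedModule.mk y.1 1,
    (hiff (K.cocomplex.X i) _).2 (by
      obtain ⟨n, hn⟩ := y.2
      refine ⟨n, fun a ha => ?_⟩
      rw [LocalizedModule.smul'_mk, hn a ha, LocalizedModule.zero_mk])⟩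
  have hyA : (gammaComplex JA (resA S K)).d i (i + 1) yA = 0 := Subtype.ext (by
    rw [gammaComplex_d_val]
    show LocalizedModule.map S (K.cocomplex.d i (i + 1)).hom (LocalizedModule.mk y.1 1) = 0
    rw [LocalizedModule.map_mk]
    have h : (K.cocomplex.d i (i + 1)).hom y.1 = 0 :=
      (gammaComplex_d_val J K i (i + 1) y).symm.trans (congrArg Subtype.val hy)
    rw [h, LocalizedModule.zero_mk])
  have hzA : classOf i (GA.f i yA) (map_cocycle GA hyA) = 0 := by
    rw [← classOf_map GA i yA hyA]
    refine (homologyEquiv JA (resA S K') i).map_eq_zero_iff.1 ?_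
    rw [homologyEquiv_naturality JA (resA S K) (resHomA S φ) i, hz]
    rfl
  have hval : (GA.f i yA).1 = LocalizedModule.mk z.1 1 :=
    LocalizedModule.map_mk (S := S) _ _ _
  have key : ∃ s ∈ S, classOf i (s • z) (by rw [map_smul, map_cocycle G hy, smul_zero]) = 0 := by
    rcases i with - | p
    · rw [classOf_zero_eq_zero_iff] at hzA
      have h0 : LocalizedModule.mk z.1 (1 : S) = 0 := hval.symm.trans (congrArg Subtype.val hzA)
      obtain ⟨⟨s, hs⟩, hsz⟩ := (IsLocalizedModule.eq_zero_iff S (LocalizedModule.mkLinearMap S (K'.cocomplex.X 0))).1 h0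
      exact ⟨s, hs, (classOf_zero_eq_zero_iff _ _).2 (Subtype.ext hsz)⟩
    · rw [classOf_succ_eq_zero_iff] at hzA
      obtain ⟨⟨w, hw⟩, hdw⟩ := hzA
      obtain ⟨n, hn⟩ := (hiff (K'.cocomplex.X p) w).1 hw
      have hdw' : (resA S K').cocomplex.d p (p + 1) w = LocalizedModule.mk z.1 1 :=
        ((gammaComplex_d_val JA (resA S K') p (p + 1) ⟨w, hw⟩).symm.trans (congrArg Subtype.val hdw)).trans hval
      revert hw hdw hdw' hn
      induction w using LocalizedModule.induction_on with
      | _ v s =>
        intro hw hdw hn hdw'
        rw [hd] at hdw'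
        obtain ⟨⟨u, hu⟩, huv⟩ := LocalizedModule.mk_eq.1 hdw'
        obtain ⟨t, ht, htv⟩ := exists_mem_smul_smul_eq_zero S (J ^ n) v fun a ha => by
          have h0 := hn a ha
          rw [LocalizedModule.smul'_mk, ← LocalizedModule.zero_mk s, LocalizedModule.mk_eq] at h0
          obtain ⟨⟨q, hq⟩, hqa⟩ := h0
          simp only [Submonoid.smul_def, smul_zero] at hqa
          exact ⟨q * s, S.mul_mem hq s.2, by rw [mul_smul]; exact hqa⟩
        refine ⟨u * t * s, S.mul_mem (S.mul_mem hu ht) s.2, (classOf_succ_eq_zero_iff _ _ _).2
          ⟨⟨(u * t) • v, n, fun a ha => by rw [mul_smul, smul_comm a u, htv a ha, smul_zero]⟩, Subtype.ext ?_⟩⟩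
        rw [gammaComplex_d_val]
        show (K'.cocomplex.d p (p + 1)).hom ((u * t) • v) = (u * t * (s : R)) • z.1
        simp only [Submonoid.smul_def, OneMemClass.coe_one, one_smul] at huv
        rw [map_smul, mul_comm u t, mul_smul, mul_smul, mul_smul]
        exact congrArg (t • ·) huv
  obtain ⟨s, hs, hsz⟩ := key
  refine ⟨s, hs, ?_⟩
  rw [← homologyEquiv_naturality J K φ i, classOf_map, ← map_smul (homologyEquiv J K' i), ← classOf_smul]
  rw [hsz, map_zero]

end GrothLib.LCSupp3
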