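import Groth.Agent.Lib.LCSupp3.Local
import Groth.Agent.Lib.LC.ChangeSeq

/-! Cocycle level statements on localised `Γ` complexes. -/

set_option autoImplicit false

universe u

open CategoryTheory Limits Opposite Abelian GrothLib.LC

namespace GrothLib.LCSupp3

variable {R : Type u} [CommRing R]

/-- The coboundaries. -/
def bdry (C : CochainComplex (ModuleCat.{u} R) ℕ) : ∀ q : ℕ, Submodule R (C.X q)
  | 0 => ⊥
  | q + 1 => LinearMap.range (C.d q (q + 1)).hom

theorem classOf_eq_zero_iff_mem_bdry {C : CochainComplex (ModuleCat.{u} R) ℕ} (q : ℕ) (x : C.X q)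
    (hx : C.d q (q + 1) x = 0) : classOf q x hx = 0 ↔ x ∈ bdry C q := by
  rcases q with - | q
  · exact (classOf_zero_eq_zero_iff x hx).trans (Submodule.mem_bot R).symm
  · exact classOf_succ_eq_zero_iff q x hx

theorem eq_zero_of_mem_bdry {C : CochainComplex (ModuleCat.{u} R) ℕ} {x : C.X 0} (h : x ∈ bdry C 0) : x = 0 :=
  (Submodule.mem_bot R).1 h

variable [IsNoetherianRing R] (S : Submonoid R) (J : Ideal R) {M M' : ModuleCat.{u} R}

theorem mem_torsion_localization_iff (X : ModuleCat.{u} R) (w : LocalizedModule S X) :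
    w ∈ DRing.torsionSub (J.map (algebraMap R (Localization S))) (LocalizedModule S X) ↔
      w ∈ DRing.torsionSub J (LocalizedModule S X) :=
  mem_torsionSub_map_iff (R' := Localization S) J (LocalizedModule S X) w

/-- A cochain of the `Γ_J` complex, localised. -/
noncomputable def toA (K : InjectiveResolution M) {q : ℕ} (z : (gammaComplex J K).X q) :
    (gammaComplex (J.map (algebraMap R (Localization S))) (resA S K)).X q :=
  ⟨LocalizedModule.mk z.1 1, (mem_torsion_localization_iff S J (K.cocomplex.X q) _).2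
    ⟨z.2.choose, fun a ha => by
      rw [LocalizedModule.smul'_mk, z.2.choose_spec a ha, LocalizedModule.zero_mk]⟩⟩

theorem toA_d (K : InjectiveResolution M) {q r : ℕ} (z : (gammaComplex J K).X q) :
    (gammaComplex (J.map (algebraMap R (Localization S))) (resA S K)).d q r (toA S J K z) =
      toA S J K ((gammaComplex J K).d q r z) := Subtype.ext (by
  rw [gammaComplex_d_val]
  exact LocalizedModule.map_mk (S := S) (K.cocomplex.d q r).hom z.1 1)

theorem toA_map {K : InjectiveResolution M} {K' : InjectiveResolution M'} {f : M ⟶ M'}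
    (φ : InjectiveResolution.Hom K K' f) {q : ℕ} (z : (gammaComplex J K).X q) :
    (((DRing.gammaI (J.map (algebraMap R (Localization S)))).mapHomologicalComplex (ComplexShape.up ℕ)).map
        (resHomA S φ).hom).f q (toA S J K z) =
      toA S J K' ((((DRing.gammaI J).mapHomologicalComplex (ComplexShape.up ℕ)).map φ.hom).f q z) :=
  Subtype.ext (LocalizedModule.map_mk (S := S) (φ.hom.f q).hom z.1 1)

theorem toA_mem_bdry (K : InjectiveResolution M) {q : ℕ} (z : (gammaComplex J K).X q)
    (hz : z ∈ bdry (gammaComplex J K) q) : toA S J K z ∈ bdry (gammaComplex _ (resA S K)) q := by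
  rcases q with - | q
  · rw [(Submodule.mem_bot R).1 hz]
    rw [show toA S J K (0 : (gammaComplex J K).X 0) = 0 from Subtype.ext (LocalizedModule.zero_mk (1 : S))]
    exact zero_mem _
  · obtain ⟨w, rfl⟩ := hz
    exact ⟨toA S J K w, toA_d S J K w⟩

theorem exists_smul_mem_bdry (K : InjectiveResolution M) {q : ℕ} (z : (gammaComplex J K).X q)
    (h : toA S J K z ∈ bdry (gammaComplex _ (resA S K)) q) :
    ∃ s ∈ S, s • z ∈ bdry (gammaComplex J K) q := by
  rcases q with - | p
  · have h0 : LocalizedModule.mk z.1 (1 : S) = 0 := congrArg Subtype.val (eq_zero_of_mem_bdry h)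
    obtain ⟨⟨s, hs⟩, hsz⟩ :=
      (IsLocalizedModule.eq_zero_iff S (LocalizedModule.mkLinearMap S (K.cocomplex.X 0))).1 h0
    exact ⟨s, hs, (Submodule.mem_bot R).2 (Subtype.ext hsz)⟩
  · obtain ⟨⟨w, hw⟩, hdw⟩ := h
    obtain ⟨n, hn⟩ := (mem_torsion_localization_iff S J (K.cocomplex.X p) w).1 hw
    have hdw' : (resA S K).cocomplex.d p (p + 1) w = LocalizedModule.mk z.1 1 :=
      (gammaComplex_d_val _ (resA S K) p (p + 1) ⟨w, hw⟩).symm.trans (congrArg Subtype.val hdw)
    revert hw hdw hdw' hn
    induction w using LocalizedModule.induction_on with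
    | _ v s =>
      intro hw hdw hn hdw'
      replace hdw' : LocalizedModule.mk (K.cocomplex.d p (p + 1) v) s = LocalizedModule.mk z.1 1 :=
        (LocalizedModule.map_mk (S := S) (K.cocomplex.d p (p + 1)).hom v s).symm.trans hdw'
      obtain ⟨⟨u, hu⟩, huv⟩ := LocalizedModule.mk_eq.1 hdw'
      obtain ⟨t, ht, htv⟩ := exists_mem_smul_smul_eq_zero S (J ^ n) v fun a ha => by
        have h0 := hn a ha
        rw [LocalizedModule.smul'_mk, ← LocalizedModule.zero_mk s, LocalizedModule.mk_eq] at h0
        obtain ⟨⟨r, hr⟩, hra⟩ := h0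
        simp only [Submonoid.smul_def, smul_zero] at hra
        exact ⟨r * s, S.mul_mem hr s.2, by rw [mul_smul]; exact hra⟩
      refine ⟨u * t * s, S.mul_mem (S.mul_mem hu ht) s.2,
        ⟨⟨(u * t) • v, n, fun a ha => by rw [mul_smul, smul_comm a u, htv a ha, smul_zero]⟩, Subtype.ext ?_⟩⟩
      show (K.cocomplex.d p (p + 1)).hom ((u * t) • v) = (u * t * (s : R)) • z.1
      simp only [Submonoid.smul_def, OneMemClass.coe_one, one_smul] at huv
      rw [map_smul, mul_comm u t, mul_smul, mul_smul, mul_smul]
      exact congrArg (t • ·) huv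

/-- A chosen lift of `f` to injective resolutions. -/
noncomputable def liftHom (f : M ⟶ M') :
    InjectiveResolution.Hom (injectiveResolution M) (injectiveResolution M') f :=
  ⟨InjectiveResolution.desc f (injectiveResolution M') (injectiveResolution M),
    (InjectiveResolution.desc_commutes_zero f _ _).trans (by rw [CochainComplex.single₀_map_f_zero]; rfl)⟩

/-- An element in the image of a map injective at the localisation dies after localisation. -/
theorem exists_smul_map_eq_zero_of_injOn {M'' : ModuleCat.{u} R} (i : ℕ) (f : M ⟶ M') (g : M' ⟶ M'')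
    (hinj : ∀ v, v ∈ LinearMap.range ((localCohomology (J.map (algebraMap R (Localization S))) i).map
        ((locA S).map f)).hom →
      (localCohomology (J.map (algebraMap R (Localization S))) i).map ((locA S).map g) v = 0 → v = 0)
    (x : (localCohomology J i).obj M)
    (hx : (localCohomology J i).map g ((localCohomology J i).map f x) = 0) :
    ∃ s ∈ S, s • (localCohomology J i).map f x = 0 := by
  haveI : IsNoetherianRing (Localization S) := IsLocalization.isNoetherianRing S _ inferInstance
  let K := injectiveResolution M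
  let K' := injectiveResolution M'
  let K'' := injectiveResolution M''
  let JA := J.map (algebraMap R (Localization S))
  obtain ⟨c, rfl⟩ := (homologyEquiv J K i).surjective x
  obtain ⟨y, hy, rfl⟩ := classOf_surjective i c
  let G := ((DRing.gammaI J).mapHomologicalComplex (ComplexShape.up ℕ)).map (liftHom f).hom
  let G' := ((DRing.gammaI J).mapHomologicalComplex (ComplexShape.up ℕ)).map (liftHom g).hom
  have hyA : (gammaComplex JA (resA S K)).d i (i + 1) (toA S J K y) = 0 := by
    rw [toA_d, hy]
    exact Subtype.ext (LocalizedModule.zero_mk (1 : S))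
  let v := homologyEquiv JA (resA S K') i (classOf i _ (map_cocycle
    (((DRing.gammaI JA).mapHomologicalComplex (ComplexShape.up ℕ)).map (resHomA S (liftHom f)).hom) hyA))
  have hv : v ∈ LinearMap.range ((localCohomology JA i).map ((locA S).map f)).hom :=
    ⟨homologyEquiv JA (resA S K) i (classOf i _ hyA), by
      refine ((homologyEquiv_naturality JA (resA S K) (resHomA S (liftHom f)) i _).symm).trans ?_
      exact congrArg (homologyEquiv JA (resA S K') i) (classOf_map _ i _ hyA)⟩
  rw [← homologyEquiv_naturality J K (liftHom f) i, classOf_map, ← homologyEquiv_naturality J K' (liftHom g) i,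
    classOf_map, LinearEquiv.map_eq_zero_iff, classOf_eq_zero_iff_mem_bdry] at hx
  have hv0 : (localCohomology JA i).map ((locA S).map g) v = 0 := by
    refine ((homologyEquiv_naturality JA (resA S K') (resHomA S (liftHom g)) i _).symm).trans ?_
    rw [classOf_map, LinearEquiv.map_eq_zero_iff, classOf_eq_zero_iff_mem_bdry, toA_map, toA_map]
    exact toA_mem_bdry S J K'' _ hx
  have h0 : toA S J K' (G.f i y) ∈ bdry (gammaComplex JA (resA S K')) i := by
    have h := (homologyEquiv JA (resA S K') i).map_eq_zero_iff.1 (hinj v hv hv0)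
    rw [classOf_eq_zero_iff_mem_bdry, toA_map] at h
    exact h
  obtain ⟨s, hs, hsz⟩ := exists_smul_mem_bdry S J K' _ h0
  refine ⟨s, hs, ?_⟩
  rw [← homologyEquiv_naturality J K (liftHom f) i, classOf_map, ← map_smul (homologyEquiv J K' i), ← classOf_smul,
    LinearEquiv.map_eq_zero_iff, classOf_eq_zero_iff_mem_bdry]
  exact hsz

/-- A cochain which is a cocycle after localisation. -/
theorem exists_smul_map_mem_bdry (q : ℕ) (f : M ⟶ M')
    (hz : (localCohomology (J.map (algebraMap R (Localization S))) q).map ((locA S).map f) = 0)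
    (b : (gammaComplex J (injectiveResolution M)).X q)
    (hb : ∃ t ∈ S, t • (gammaComplex J (injectiveResolution M)).d q (q + 1) b = 0) :
    ∃ s ∈ S, s • (((DRing.gammaI J).mapHomologicalComplex (ComplexShape.up ℕ)).map (liftHom f).hom).f q b ∈
      bdry (gammaComplex J (injectiveResolution M')) q := by
  haveI : IsNoetherianRing (Localization S) := IsLocalization.isNoetherianRing S _ inferInstance
  let K := injectiveResolution M
  let JA := J.map (algebraMap R (Localization S))
  obtain ⟨t, ht, htb⟩ := hb
  have hbA : (gammaComplex JA (resA S K)).d q (q + 1) (toA S J K b) = 0 := by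
    rw [toA_d]
    exact Subtype.ext ((IsLocalizedModule.eq_zero_iff S (LocalizedModule.mkLinearMap S _)).2
      ⟨⟨t, ht⟩, congrArg Subtype.val htb⟩)
  refine exists_smul_mem_bdry S J _ _ ?_
  have h : homologyEquiv JA (resA S (injectiveResolution M')) q (HomologicalComplex.homologyMap
      (((DRing.gammaI JA).mapHomologicalComplex (ComplexShape.up ℕ)).map (resHomA S (liftHom f)).hom) q
        (classOf q _ hbA)) = 0 := by
    rw [homologyEquiv_naturality JA (resA S K) (resHomA S (liftHom f)) q, hz]
    rfl
  rw [classOf_map, LinearEquiv.map_eq_zero_iff, classOf_eq_zero_iff_mem_bdry, toA_map] at h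
  exact h

omit S in
/-- A class killed by `t` is, up to coboundary, supported on `t`. -/
theorem exists_torsion_lift (K : InjectiveResolution M) (t : R) (q : ℕ) (b : (gammaComplex J K).X q)
    (h : t • b ∈ bdry (gammaComplex J K) q) :
    ∃ c : (gammaComplex (J ⊔ Ideal.span {t}) K).X q,
      K.cocomplex.d q (q + 1) c.1 = K.cocomplex.d q (q + 1) b.1 := by
  rcases q with - | p
  · refine ⟨⟨b.1, (mem_torsionSub_sup_iff J (Ideal.span {t}) b.1).2
      ⟨b.2, (mem_torsionSub_span_singleton_iff t b.1).2 ⟨1, ?_⟩⟩⟩, rfl⟩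
    rw [pow_one]
    exact congrArg Subtype.val (eq_zero_of_mem_bdry h)
  · obtain ⟨⟨w, hw⟩, hdw⟩ := h
    let P := Submonoid.powers t
    let mk := fun n : ℕ => LocalizedModule.mkLinearMap P (K.cocomplex.X n)
    have hdw' : (K.cocomplex.d p (p + 1)).hom w = t • b.1 := congrArg Subtype.val hdw
    obtain ⟨σ, hσ, -⟩ := exists_section t (K.cocomplex.X p)
    have hinj : ∀ n : ℕ, Function.Injective fun z : LocalizedModule P (K.cocomplex.X n) => t • z := fun n =>
      ((Module.End.isUnit_iff _).1 (IsLocalizedModule.map_units (mk n) (⟨t, Submonoid.mem_powers t⟩ : P))).1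
    obtain ⟨v, hv⟩ := ((Module.End.isUnit_iff _).1
      (IsLocalizedModule.map_units (mk p) (⟨t, Submonoid.mem_powers t⟩ : P))).2 (mk p w)
    replace hv : t • v = mk p w := hv
    have hvJ : v ∈ DRing.torsionSub J (LocalizedModule P (K.cocomplex.X p)) := by
      obtain ⟨n, hn⟩ := hw
      refine ⟨n, fun a ha => hinj p ?_⟩
      show t • a • v = t • 0
      rw [smul_comm, hv, ← map_smul, hn a ha, map_zero, smul_zero]
    have hmk : mk (p + 1) ((K.cocomplex.d p (p + 1)).hom (σ v)) = mk (p + 1) b.1 := by
      refine hinj (p + 1) ?_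
      show t • mk (p + 1) _ = t • mk (p + 1) b.1
      have h1 : mk (p + 1) ((K.cocomplex.d p (p + 1)).hom (σ v)) =
          IsLocalizedModule.map P (mk p) (mk (p + 1)) (K.cocomplex.d p (p + 1)).hom v := by
        rw [← IsLocalizedModule.map_apply P (mk p) (mk (p + 1))]
        exact congrArg _ (LinearMap.congr_fun hσ v)
      rw [h1, ← map_smul, hv, IsLocalizedModule.map_apply, hdw', map_smul]
    refine ⟨⟨b.1 - (K.cocomplex.d p (p + 1)).hom (σ v), (mem_torsionSub_sup_iff J (Ideal.span {t}) _).2
      ⟨sub_mem b.2 (DRing.map_mem_torsionSub J _ (DRing.map_mem_torsionSub J σ hvJ)),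
        (mem_torsionSub_span_singleton_iff t _).2 ?_⟩⟩, ?_⟩
    · have h0 : mk (p + 1) (b.1 - (K.cocomplex.d p (p + 1)).hom (σ v)) = 0 := by rw [map_sub, hmk, sub_self]
      obtain ⟨⟨_, n, rfl⟩, hn⟩ := (IsLocalizedModule.eq_zero_iff P (mk (p + 1))).1 h0
      exact ⟨n, hn⟩
    · show (K.cocomplex.d (p + 1) (p + 1 + 1)).hom (b.1 - (K.cocomplex.d p (p + 1)).hom (σ v)) = _
      rw [map_sub, ← ModuleCat.comp_apply, HomologicalComplex.d_comp_d]
      exact sub_zero _

end GrothLib.LCSupp3
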