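import Groth.Agent.Lib.LCSupp3.Main
import Groth.Agent.Lib.LCSupp3.Cocycle

/-! Injectivity of stable images on local cohomology with supports from the pointwise statement. -/

set_option autoImplicit false

universe u

open CategoryTheory Limits Opposite Abelian PrimeSpectrum GrothLib.LCSupp

namespace GrothLib.LCSupp3

variable {R : Type u} [CommRing R] [IsNoetherianRing R] {M M' M'' : ModuleCat.{u} R}
  {T : Set (PrimeSpectrum R)} {i : ℕ}

omit [IsNoetherianRing R] in
theorem quotMap_eq (J : Ideal R) {a b : ℕ} (h : a ≤ b) :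
    GrothLib.LC.quotMap J h = quotMap (Ideal.pow_le_pow_right h) :=
  ModuleCat.hom_ext (Submodule.linearMap_qext _ (LinearMap.ext fun _ => rfl))

omit [IsNoetherianRing R] in
theorem quotLE_eq {J J' : Ideal R} (h : J ≤ J') (n : ℕ) :
    GrothLib.LC.quotLE h n = quotMap (Ideal.pow_right_mono h n) :=
  ModuleCat.hom_ext (Submodule.linearMap_qext _ (LinearMap.ext fun _ => rfl))

omit [IsNoetherianRing R] in
theorem toHT_eq_zero_of_toH {J : Ideal R} (hJ : zeroLocus (J : Set R) ⊆ T) {n : ℕ}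
    (e : Ext (GrothLib.LC.quotPow J n) M i) (h : GrothLib.LC.toH J i n M e = 0) :
    toHT i (J ^ n) (mem_pow hJ n) M e = 0 := by
  obtain ⟨k, hk, he⟩ := (GrothLib.LC.toH_eq_zero_iff J e).1 h
  rw [quotMap_eq] at he
  exact (toHT_eq_zero_iff e).2 ⟨J ^ k, mem_pow hJ k, Ideal.pow_le_pow_right hk, he⟩

/-- Minimal primes of `K` which are minimal points of `T` are avoided by suitable ideals. -/
theorem exists_avoiding (K I : Ideal R)
    (h : ∀ p : PrimeSpectrum R, p.asIdeal ∈ K.minimalPrimes → p ∉ nonMin T → ¬ I ≤ p.asIdeal) :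
    ∃ s ∈ I, ∀ p : PrimeSpectrum R, p.asIdeal ∈ K.minimalPrimes → p ∉ nonMin T → s ∉ p.asIdeal := by
  classical
  let P : Finset (Ideal R) := (Ideal.finite_minimalPrimes_of_isNoetherianRing R K).toFinset.filter
    fun p => ∃ h : p.IsPrime, (⟨p, h⟩ : PrimeSpectrum R) ∉ nonMin T
  by_contra hc
  push Not at hc
  have hsub : (I : Set R) ⊆ ⋃ p ∈ (↑P : Set (Ideal R)), (p : Set R) := fun a ha => by
    obtain ⟨p, hp, hpn, hap⟩ := hc a ha
    exact Set.mem_biUnion (Finset.mem_coe.2 (Finset.mem_filter.2 ⟨(Set.Finite.mem_toFinset _).2 hp, p.2, hpn⟩)) hap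
  obtain ⟨p, hp, hle⟩ := (Ideal.subset_union_prime (f := id) ⊤ ⊤ fun p hp _ _ =>
    ((Finset.mem_filter.1 hp).2).1).1 hsub
  obtain ⟨hpm, hpp, hpn⟩ := Finset.mem_filter.1 hp
  exact h ⟨p, hpp⟩ ((Set.Finite.mem_toFinset _).1 hpm) hpn hle

omit [IsNoetherianRing R] in
theorem subset_nonMin {K : Ideal R} {s : R} (hK : zeroLocus (K : Set R) ⊆ T)
    (hs : ∀ p : PrimeSpectrum R, p.asIdeal ∈ K.minimalPrimes → p ∉ nonMin T → s ∉ p.asIdeal) :
    zeroLocus ((K ⊔ Ideal.span {s} : Ideal R) : Set R) ⊆ nonMin T := fun q hq => by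
  have hle : K ≤ q.asIdeal := le_sup_left.trans hq
  have hsq : s ∈ q.asIdeal := hq (Ideal.mem_sup_right (Ideal.mem_span_singleton_self s))
  by_contra hn
  have hmin : q.asIdeal ∈ K.minimalPrimes := ⟨⟨q.2, hle⟩, fun r hr hrq => by
    by_contra hne
    exact hn ⟨hK hle, ⟨r, hr.1⟩, hK hr.2, lt_of_le_not_ge hrq hne⟩⟩
  exact hs q hmin hn hsq

/-- A class killed near every minimal point of `T` comes from the other points. -/
theorem exists_of_killed {J : Ideal R} (hJ : zeroLocus (J : Set R) ⊆ T)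
    (e1 : Ext (GrothLib.LC.quotPow J 1) M i)
    (h : ∀ p : PrimeSpectrum R, p.asIdeal ∈ J.minimalPrimes → p ∉ nonMin T →
      ∃ t ∈ p.asIdeal.primeCompl, t • GrothLib.LC.toH J i 1 M e1 = 0) :
    ∃ (J' : Ideal R) (hJ' : zeroLocus (J' : Set R) ⊆ nonMin T) (e' : Ext (quotI J') M i),
      toHT i (J ^ 1) (mem_pow hJ 1) M e1 = toHT i J' (hJ'.trans (nonMin_subset T)) M e' := by
  let y := GrothLib.LC.toH J i 1 M e1
  obtain ⟨s, hsA, hsP⟩ := exists_avoiding (T := T) J (Submodule.span R {y}).annihilator fun p hp hn hle => by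
    obtain ⟨t, ht, hty⟩ := h p hp hn
    exact ht (hle ((Submodule.mem_annihilator_span_singleton y t).2 hty))
  have hsy : s • y = 0 := (Submodule.mem_annihilator_span_singleton y s).1 hsA
  obtain ⟨z, hz⟩ := (GrothLib.LC.mem_range_hmap_iff J s M i y).2 ⟨1, by rwa [pow_one]⟩
  obtain ⟨n, e'', rfl⟩ := GrothLib.LC.exists_toH (J ⊔ Ideal.span {s}) z
  rw [GrothLib.LC.hmap_toH] at hz
  obtain ⟨k, hnk, h1k, hk⟩ := (GrothLib.LC.toH_eq_toH_iff J _ _).1 hz
  rw [quotMap_eq, quotMap_eq] at hk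
  refine ⟨(J ⊔ Ideal.span {s}) ^ n, mem_pow (subset_nonMin hJ hsP) n, e'', ?_⟩
  rw [← toHT_restrict (mem_pow hJ n) (Ideal.pow_right_mono le_sup_left n) e'', ← quotLE_eq]
  exact ((toHT_eq_toHT_iff _ _).2 ⟨J ^ k, mem_pow hJ k, Ideal.pow_le_pow_right hnk,
    Ideal.pow_le_pow_right h1k, hk⟩).symm

open GrothLib.LC in
/-- A class on the non-minimal points dying on `T` dies under a map killing the previous degree
at the minimal points. -/
theorem map_eq_zero_of_kernel (f : M ⟶ M')
    (hloc : ∀ q, i = q + 1 → ∀ p ∈ T, p ∉ nonMin T →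
      (localCohomology (IsLocalRing.maximalIdeal (Localization.AtPrime p.asIdeal)) q).map
        ((locA p.asIdeal.primeCompl).map f) = 0)
    {J : Ideal R} (hJ : zeroLocus (J : Set R) ⊆ nonMin T) (e : Ext (quotI J) M i)
    (h0 : toHT i J (hJ.trans (nonMin_subset T)) M e = 0) :
    (HF (nonMin T) i).map f (toHT i J hJ M e) = 0 := by
  classical
  obtain ⟨K, hK, hKJ, hKe⟩ := (toHT_eq_zero_iff e).1 h0
  have hJ1 : J ^ 1 ≤ J := (pow_one J).le
  let e1 : Ext (quotPow J 1) M i := (Ext.mk₀ (GrothLib.LCSupp.quotMap hJ1)).comp e (zero_add i)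
  have hK0 : hmap hKJ i M (toH J i 1 M e1) = 0 := by
    rw [hmap_toH, ← map_zero (toH K i 1 M)]
    refine congrArg (toH K i 1 M) ?_
    rw [quotLE_eq, show e1 = (Ext.mk₀ (GrothLib.LCSupp.quotMap hJ1)).comp e (zero_add i) from rfl,
      Ext.mk₀_comp_mk₀_assoc, GrothLib.LCSupp.quotMap_comp,
      ← GrothLib.LCSupp.quotMap_comp (pow_one K).le hKJ, ← Ext.mk₀_comp_mk₀_assoc, hKe, Ext.comp_zero]
  rw [show toHT i J hJ M e = toHT i (J ^ 1) (mem_pow hJ 1) M e1 from (toHT_restrict (mem_pow hJ 1) hJ1 e).symm]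
  rcases i with - | q
  · have hy : toH J 0 1 M e1 = 0 := by
      let I := injectiveResolution M
      obtain ⟨c, hc⟩ := (homologyEquiv J I 0).surjective (toH J 0 1 M e1)
      obtain ⟨a, ha, rfl⟩ := classOf_surjective 0 c
      rw [← hc, ← homologyEquiv_le, classOf_map, LinearEquiv.map_eq_zero_iff, classOf_zero_eq_zero_iff] at hK0
      have ha0 : a = 0 := Subtype.ext (congrArg Subtype.val hK0 :)
      rw [← hc, LinearEquiv.map_eq_zero_iff, classOf_zero_eq_zero_iff]
      exact ha0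
    rw [toHT_eq_zero_of_toH hJ e1 hy, map_zero]
  · let I := injectiveResolution M
    let I' := injectiveResolution M'
    obtain ⟨c, hc⟩ := (homologyEquiv J I (q + 1)).surjective (toH J (q + 1) 1 M e1)
    obtain ⟨a, ha, rfl⟩ := classOf_surjective (q + 1) c
    rw [← hc, ← homologyEquiv_le, classOf_map, LinearEquiv.map_eq_zero_iff, classOf_succ_eq_zero_iff] at hK0
    obtain ⟨b, hb⟩ := hK0
    have hba : I.cocomplex.d q (q + 1) b.1 = a.1 := congrArg Subtype.val hb
    let G := ((DRing.gammaI K).mapHomologicalComplex (ComplexShape.up ℕ)).map (liftHom f).hom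
    let b' := G.f q b
    obtain ⟨t, htI, htP⟩ := exists_avoiding (T := T) K
      ((bdry (gammaComplex K I') q).comap (LinearMap.toSpanSingleton R _ b')) fun p hp hn hle => by
      have hpT : p ∈ T := hK hp.1.2
      have hJp : ¬ J ≤ p.asIdeal := fun hle => hn (hJ hle)
      obtain ⟨s, hsJ, hsp⟩ := SetLike.not_le_iff_exists.1 hJp
      obtain ⟨n, hn'⟩ := a.2
      have hb0 : ∃ t ∈ p.asIdeal.primeCompl, t • (gammaComplex K I).d q (q + 1) b = 0 :=
        ⟨s ^ n, fun h => hsp (p.2.mem_of_pow_mem n h), Subtype.ext (by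
          show s ^ n • I.cocomplex.d q (q + 1) b.1 = 0
          rw [hba]
          exact hn' _ (Ideal.pow_mem_pow hsJ n))⟩
      let A := Localization.AtPrime p.asIdeal
      haveI : IsNoetherianRing A := IsLocalization.isNoetherianRing p.asIdeal.primeCompl _ inferInstance
      have hrad : (K.map (algebraMap R A)).radical = (IsLocalRing.maximalIdeal A).radical := by
        rw [IsLocalization.AtPrime.radical_map_of_mem_minimalPrimes (A := A) p.asIdeal K hp,
          (IsLocalRing.maximalIdeal.isMaximal A).isPrime.radical,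
          Localization.AtPrime.map_eq_maximalIdeal]
      have hz : (localCohomology (K.map (algebraMap R A)) q).map ((locA p.asIdeal.primeCompl).map f) = 0 := by
        refine (cancel_mono ((localCohomology.isoOfSameRadical hrad q).hom.app _)).1 ?_
        rw [(localCohomology.isoOfSameRadical hrad q).hom.naturality, hloc q rfl p hpT hn, comp_zero, zero_comp]
      obtain ⟨r, hr, hrb⟩ := exists_smul_map_mem_bdry p.asIdeal.primeCompl K q f hz b hb0
      exact hr (hle hrb)
    obtain ⟨c', hc'⟩ := exists_torsion_lift K I' t q b' htI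
    let J4 := J * (K ⊔ Ideal.span {t})
    have hJ4 : zeroLocus (J4 : Set R) ⊆ nonMin T := mem_mul hJ (subset_nonMin hK htP)
    have h4 : J4 ≤ J := Ideal.mul_le_left
    have hz : hmap h4 (q + 1) M' ((localCohomology J (q + 1)).map f (toH J (q + 1) 1 M e1)) = 0 := by
      rw [← hc, ← homologyEquiv_naturality J I (liftHom f) (q + 1), classOf_map, ← homologyEquiv_le, classOf_map,
        LinearEquiv.map_eq_zero_iff, classOf_succ_eq_zero_iff]
      refine ⟨(gammaLE (Ideal.mul_le_right : J4 ≤ K ⊔ Ideal.span {t})).app _ c', Subtype.ext ?_⟩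
      show I'.cocomplex.d q (q + 1) c'.1 = (liftHom f).hom.f (q + 1) a.1
      rw [hc', ← hba]
      exact ConcreteCategory.congr_hom ((liftHom f).hom.comm q (q + 1)) b.1
    rw [map_toH, hmap_toH] at hz
    have h := toHT_eq_zero_of_toH (T := nonMin T) hJ4 _ hz
    rw [quotLE_eq, toHT_restrict (hJ := mem_pow hJ 1)] at h
    rw [map_toHT]
    exact h

/-- The main statement. -/
theorem injOn_of_pointwise {F : ℕ → Type u} [∀ n, AddCommGroup (F n)] [∀ n, Module R (F n)]
    (φ : ∀ k m : ℕ, m ≤ k → (F k →ₗ[R] F m))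
    (hφ : ∀ (k l m : ℕ) (h₁ : m ≤ l) (h₂ : l ≤ k), φ k m (h₁.trans h₂) = φ l m h₁ ∘ₗ φ k l h₂)
    (m' : ℕ → ℕ) (hm' : ∀ m, m ≤ m' m) (i : ℕ) :
    ∀ (n : ℕ) (T : Set (PrimeSpectrum R)), StableUnderSpecialization T → (∀ l : LTSeries ↥T, l.length < n) →
      (∀ q, i = q + 1 → ∀ p ∈ T, ∀ (m k : ℕ) (h : m ≤ k), m' m ≤ k →
        (localCohomology (IsLocalRing.maximalIdeal (Localization.AtPrime p.asIdeal)) q).map
          ((locA p.asIdeal.primeCompl).map (ModuleCat.ofHom (φ k m h))) = 0) →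
      (∀ p ∈ T, ∀ (l k : ℕ) (h : l ≤ k), m' l ≤ k → ∀ v,
        v ∈ LinearMap.range ((localCohomology (IsLocalRing.maximalIdeal (Localization.AtPrime p.asIdeal)) i).map
          ((locA p.asIdeal.primeCompl).map (ModuleCat.ofHom (φ k l h)))).hom →
        (localCohomology (IsLocalRing.maximalIdeal (Localization.AtPrime p.asIdeal)) i).map
          ((locA p.asIdeal.primeCompl).map (ModuleCat.ofHom (φ l 0 l.zero_le))) v = 0 → v = 0) →
      ∃ m₀ : ℕ, ∀ m : ℕ, ∀ (hm : m₀ ≤ m), ∃ m'' : ℕ, m ≤ m'' ∧ ∀ (k : ℕ) (h : m ≤ k), m'' ≤ k →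
        ∀ w : (HF T i).obj (ModuleCat.of R (F k)),
          (HF T i).map (ModuleCat.ofHom (φ m m₀ hm)) ((HF T i).map (ModuleCat.ofHom (φ k m h)) w) = 0 →
          (HF T i).map (ModuleCat.ofHom (φ k m h)) w = 0 := by
  intro n
  induction n with
  | zero =>
    intro T _ hlen _ _
    refine ⟨0, fun m _ => ⟨m, le_rfl, fun k h _ w _ => ?_⟩⟩
    obtain ⟨J, hJ, hJx⟩ := exists_killer w
    have hJtop : J = ⊤ := by
      by_contra hne
      obtain ⟨𝔪, h𝔪, hle⟩ := J.exists_le_maximal hne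
      exact Nat.not_lt_zero _ (hlen (RelSeries.singleton _ ⟨⟨𝔪, h𝔪.isPrime⟩, hJ hle⟩))
    have h1 := hJx 1 (hJtop ▸ Submodule.mem_top)
    rw [one_smul] at h1
    rw [h1, map_zero]
  | succ n ih =>
    intro T hT hlen h1 h3
    obtain ⟨μ, hμ⟩ := ih (nonMin T) (stable_nonMin hT) (fun s => by
      obtain ⟨q, hq, hqh⟩ := s.head.2.2
      let s' : LTSeries ↥T := LTSeries.map s (fun p => (⟨p.1, p.2.1⟩ : ↥T)) fun a b hab => hab
      have := hlen (RelSeries.cons s' ⟨q, hq⟩ hqh)
      simpa [s'] using this) (fun q hq p hp => h1 q hq p hp.1) (fun p hp => h3 p hp.1)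
    have hcomp : ∀ {k l m : ℕ} (h₁ : m ≤ l) (h₂ : l ≤ k), ModuleCat.ofHom (φ k m (h₁.trans h₂)) =
        ModuleCat.ofHom (φ k l h₂) ≫ ModuleCat.ofHom (φ l m h₁) := fun h₁ h₂ => by
      rw [hφ _ _ _ h₁ h₂]; rfl
    refine ⟨m' μ, fun m hm => ?_⟩
    have hμm : μ ≤ m := (hm' μ).trans hm
    obtain ⟨l, hml, hl⟩ := hμ m hμm
    refine ⟨m' l, hml.trans (hm' l), fun k h hk w hw => ?_⟩
    have hlk : l ≤ k := (hm' l).trans hk
    rw [hcomp hml hlk, Functor.map_comp, ModuleCat.comp_apply] at hw ⊢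
    obtain ⟨J, hJ, e, rfl⟩ := exists_toHT w
    simp only [map_toHT] at hw
    obtain ⟨K, hK, hKJ, hK0⟩ := (toHT_eq_zero_iff _).1 hw
    let e1 : Ext (GrothLib.LC.quotPow K 1) (ModuleCat.of R (F k)) i :=
      (Ext.mk₀ (quotMap ((pow_one K).le.trans hKJ))).comp e (zero_add i)
    rw [← toHT_restrict (mem_pow hK 1) ((pow_one K).le.trans hKJ) e, map_toHT]
    let f := ModuleCat.ofHom (φ k l hlk)
    let g := ModuleCat.ofHom (φ l 0 l.zero_le)
    have hg : (localCohomology K i).map g ((localCohomology K i).map f (GrothLib.LC.toH K i 1 _ e1)) = 0 := by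
      have hg' : g = ModuleCat.ofHom (φ l m hml) ≫
          (ModuleCat.ofHom (φ m (m' μ) hm) ≫ ModuleCat.ofHom (φ (m' μ) 0 (Nat.zero_le _))) := by
        rw [← hcomp, ← hcomp]
      rw [hg', Functor.map_comp, Functor.map_comp, ModuleCat.comp_apply, ModuleCat.comp_apply]
      simp only [GrothLib.LC.map_toH]
      refine (congrArg (GrothLib.LC.toH K i 1 _) ?_).trans (map_zero _)
      have h0 : (((e1.comp (Ext.mk₀ f) (add_zero i)).comp (Ext.mk₀ (ModuleCat.ofHom (φ l m hml))) (add_zero i)).comp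
          (Ext.mk₀ (ModuleCat.ofHom (φ m (m' μ) hm))) (add_zero i)) = 0 := by
        simp only [e1, ← quotMap_comp (pow_one K).le hKJ, ← Ext.mk₀_comp_mk₀_assoc, Ext.comp_assoc_of_third_deg_zero]
        simp only [Ext.comp_assoc_of_third_deg_zero] at hK0
        rw [hK0, Ext.comp_zero]
      rw [h0, Ext.zero_comp]
    obtain ⟨J', hJ', e', he'⟩ := exists_of_killed (M := ModuleCat.of R (F l)) (T := T) hK
      (e1.comp (Ext.mk₀ f) (add_zero i)) fun p hp hn => by
      have hpT : p ∈ T := hK hp.1.2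
      let A := Localization.AtPrime p.asIdeal
      haveI : IsNoetherianRing A := IsLocalization.isNoetherianRing p.asIdeal.primeCompl _ inferInstance
      have hrad : (K.map (algebraMap R A)).radical = (IsLocalRing.maximalIdeal A).radical := by
        rw [IsLocalization.AtPrime.radical_map_of_mem_minimalPrimes (A := A) p.asIdeal K hp,
          (IsLocalRing.maximalIdeal.isMaximal A).isPrime.radical,
          Localization.AtPrime.map_eq_maximalIdeal]
      let α := localCohomology.isoOfSameRadical hrad i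
      obtain ⟨t, ht, hty⟩ := exists_smul_map_eq_zero_of_injOn p.asIdeal.primeCompl K i f g (fun v hv hv0 => by
        refine (injective_iff_map_eq_zero _).1 ((ModuleCat.mono_iff_injective (α.hom.app _)).1 inferInstance) v
          (h3 p hpT l k hlk hk _ ?_ ?_)
        · obtain ⟨u, rfl⟩ := hv
          exact ⟨α.hom.app _ u, (ConcreteCategory.congr_hom (α.hom.naturality ((locA _).map f)) u).symm⟩
        · refine ((ConcreteCategory.congr_hom (α.hom.naturality ((locA _).map g)) v).symm).trans ?_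
          show α.hom.app _ ((localCohomology (K.map (algebraMap R A)) i).map _ v) = 0
          rw [hv0, map_zero]) (GrothLib.LC.toH K i 1 _ e1) hg
      exact ⟨t, ht, by rw [← GrothLib.LC.map_toH]; exact hty⟩
    rw [he', map_toHT]
    have hμ0 : toHT i J' (hJ'.trans (nonMin_subset T)) _
        (e'.comp (Ext.mk₀ (ModuleCat.ofHom (φ l (m' μ) (hm.trans hml)))) (add_zero i)) = 0 := by
      rw [← map_toHT, ← he', ← map_toHT, toHT_restrict, hcomp hm hml, Functor.map_comp, ModuleCat.comp_apply,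
        map_toHT, map_toHT, map_toHT]
      exact hw
    have hz := map_eq_zero_of_kernel (ModuleCat.ofHom (φ (m' μ) μ (hm' μ)))
      (fun q hq p hp _ => h1 q hq p hp (μ) (m' μ) (hm' μ) le_rfl) hJ' _ hμ0
    have hfin := hl l hml le_rfl (toHT i J' hJ' _ e') (by
      rw [← ModuleCat.comp_apply, ← Functor.map_comp, ← hcomp hμm hml,
        hcomp (hm' μ) (hm.trans hml), Functor.map_comp, ModuleCat.comp_apply, map_toHT (J := J')]
      exact hz)
    rw [map_toHT, toHT_eq_zero_iff] at hfin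
    obtain ⟨K', hK', hK'le, hK'0⟩ := hfin
    exact (toHT_eq_zero_iff _).2 ⟨K', hK'.trans (nonMin_subset T), hK'le, hK'0⟩

theorem exists_length_lt {T : Set (PrimeSpectrum R)} (h : ringKrullDim R < ⊤) :
    ∃ n : ℕ, ∀ l : LTSeries ↥T, l.length < n := by
  obtain ⟨d, hd⟩ : ∃ d : ℕ, ringKrullDim R ≤ d := by
    generalize ringKrullDim R = x at h
    induction x using WithBot.recBotCoe with
    | bot => exact ⟨0, bot_le⟩
    | coe a =>
      induction a using ENat.recTopCoe with
      | top => exact absurd h (lt_irrefl _)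
      | coe d => exact ⟨d, le_rfl⟩
  refine ⟨d + 1, fun l => ?_⟩
  have h1 : ((LTSeries.map l Subtype.val fun a b hab => hab).length : WithBot ℕ∞) ≤ d :=
    (Order.LTSeries.length_le_krullDim _).trans hd
  exact Nat.lt_succ_of_le (by exact_mod_cast h1)

end GrothLib.LCSupp3
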